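import Groth.Agent.PBasis.Separable

/-!
# Separability via derivations; differentials relative to the prime field
-/

set_option autoImplicit false
universe u v

open scoped TensorProduct

namespace Groth.Agent.PBasis

variable {k K : Type u} [Field k] [Field K] [Algebra k K]

theorem injective_mapBaseChange_of_formallySmooth {R : Type*} {S : Type*} {T : Type*} [CommRing R]
    [CommRing S] [CommRing T] [Algebra R S] [Algebra S T] [Algebra R T] [IsScalarTower R S T]
    [Algebra.FormallySmooth S T] :
    Function.Injective (KaehlerDifferential.mapBaseChange R S T) := by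
  have hδ := Algebra.H1Cotangent.exact_δ_mapBaseChange (R := R) (S := S) (T := T)
  rw [← LinearMap.ker_eq_bot, hδ.linearMap_ker_eq, LinearMap.range_eq_bot]
  exact LinearMap.ext fun z => by simp [Subsingleton.elim z 0]

theorem injective_mapBaseChange_of_isGeometricallyReduced [Algebra.IsGeometricallyReduced k K]
    {R : Type*} [CommRing R] [Algebra R k] [Algebra R K] [IsScalarTower R k K] :
    Function.Injective (KaehlerDifferential.mapBaseChange R k K) :=
  haveI := formallySmooth_iff_isGeometricallyReduced.2 ‹Algebra.IsGeometricallyReduced k K›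
  injective_mapBaseChange_of_formallySmooth

/-- An inverse to `Ω_{k/ℤ} → Ω_{k/P}` for `P` perfect of characteristic p. -/
noncomputable def primeFieldInv (p : ℕ) [Fact p.Prime] (P : Type u) [Field P] [CharP P p]
    [PerfectRing P p] (B : Type u) [CommRing B] [CharP B p] [Algebra P B] :
    Ω[B⁄P] →ₗ[B] Ω[B⁄ℤ] :=
  (Derivation.mk' (R := P)
    { toFun := fun b => KaehlerDifferential.D ℤ B b
      map_add' := fun a b => map_add _ a b
      map_smul' := fun c b => by
        obtain ⟨c, rfl⟩ := (frobeniusEquiv P p).surjective c
        show KaehlerDifferential.D ℤ B ((c ^ p) • b) = (c ^ p) • KaehlerDifferential.D ℤ B b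
        rw [Algebra.smul_def, map_pow, Derivation.leibniz, Derivation.leibniz_pow,
          ← Nat.cast_smul_eq_nsmul B, CharP.cast_eq_zero, zero_smul, smul_zero, add_zero, ← map_pow,
          algebraMap_smul] }
    fun a b => Derivation.leibniz _ a b).liftKaehlerDifferential

theorem primeFieldInv_D (p : ℕ) [Fact p.Prime] (P : Type u) [Field P] [CharP P p]
    [PerfectRing P p] (B : Type u) [CommRing B] [CharP B p] [Algebra P B] (b : B) :
    primeFieldInv p P B (KaehlerDifferential.D P B b) = KaehlerDifferential.D ℤ B b :=
  Derivation.liftKaehlerDifferential_comp_D _ b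

/-- A field extension is separable iff `K ⊗ Ω_k → Ω_K` is injective. -/
theorem isGeometricallyReduced_iff_injective_int :
    Algebra.IsGeometricallyReduced k K ↔
      Function.Injective (KaehlerDifferential.mapBaseChange ℤ k K) := by
  refine ⟨fun _ => injective_mapBaseChange_of_isGeometricallyReduced, fun h => ?_⟩
  obtain _ | ⟨p, hp, hk⟩ := CharP.exists' k
  · rw [Algebra.isGeometricallyReduced_field_iff]
    exact Groth.Agent.GeomRed.isReduced_baseChange_algebraic K (AlgebraicClosure k)
  haveI := hk
  haveI : CharP K p := charP_of_injective_algebraMap (algebraMap k K).injective p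
  letI : Algebra (ULift.{u} (ZMod p)) k :=
    ((ZMod.castHom (dvd_refl p) k).comp ULift.ringEquiv.toRingHom).toAlgebra
  letI : Algebra (ULift.{u} (ZMod p)) K :=
    ((algebraMap k K).comp (algebraMap (ULift.{u} (ZMod p)) k)).toAlgebra
  haveI : IsScalarTower (ULift.{u} (ZMod p)) k K := IsScalarTower.of_algebraMap_eq' rfl
  rw [← formallySmooth_iff_isGeometricallyReduced,
    formallySmooth_iff_injective_mapBaseChange p (P := ULift.{u} (ZMod p))]
  rw [← LinearMap.ker_eq_bot, LinearMap.ker_eq_bot']
  intro z hz
  let g := primeFieldInv p (ULift.{u} (ZMod p)) k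
  let m := KaehlerDifferential.map ℤ (ULift.{u} (ZMod p)) k k
  have hgm : ∀ w, m (g w) = w := fun w => by
    have hw : w ∈ Submodule.span k (Set.range (KaehlerDifferential.D (ULift.{u} (ZMod p)) k)) := by
      rw [KaehlerDifferential.span_range_derivation]; trivial
    induction hw using Submodule.span_induction with
    | mem _ h =>
      obtain ⟨a, rfl⟩ := h
      rw [primeFieldInv_D, KaehlerDifferential.map_D, Algebra.algebraMap_self, RingHom.id_apply]
    | zero => simp
    | add _ _ _ _ h1 h2 => simp [h1, h2]
    | smul a _ _ h => rw [map_smul, map_smul, h]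
  have hsq : ∀ y, KaehlerDifferential.mapBaseChange ℤ k K (g.baseChange K y) =
      primeFieldInv p (ULift.{u} (ZMod p)) K
        (KaehlerDifferential.mapBaseChange (ULift.{u} (ZMod p)) k K y) := fun y => by
    induction y using TensorProduct.induction_on with
    | zero => simp
    | add u v hu hv => simp [hu, hv]
    | tmul l ω =>
      rw [LinearMap.baseChange_tmul, KaehlerDifferential.mapBaseChange_tmul,
        KaehlerDifferential.mapBaseChange_tmul, map_smul]
      congr 1
      have hw : ω ∈ Submodule.span k (Set.range (KaehlerDifferential.D (ULift.{u} (ZMod p)) k)) := by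
        rw [KaehlerDifferential.span_range_derivation]; trivial
      induction hw using Submodule.span_induction with
      | mem _ h =>
        obtain ⟨a, rfl⟩ := h
        rw [primeFieldInv_D, KaehlerDifferential.map_D, KaehlerDifferential.map_D, primeFieldInv_D]
      | zero => simp
      | add _ _ _ _ h1 h2 => simp [h1, h2]
      | smul a _ _ h =>
        rw [map_smul, map_smul, map_smul, h,
          ← algebraMap_smul K a (KaehlerDifferential.map _ _ k K _), ← algebraMap_smul K a
            (primeFieldInv p (ULift.{u} (ZMod p)) K _), map_smul]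
  have h0 : g.baseChange K z = 0 := h (by rw [hsq, hz, map_zero, map_zero])
  have := congrArg (m.baseChange K) h0
  rw [map_zero, ← LinearMap.comp_apply, ← LinearMap.baseChange_comp] at this
  rwa [show m ∘ₗ g = LinearMap.id from LinearMap.ext hgm, LinearMap.baseChange_id,
    LinearMap.id_apply] at this

/-- It suffices to extend derivations with values in some field extension. -/
theorem isGeometricallyReduced_of_derivations (L : Type u) [Field L] [Algebra k L] [Algebra K L]
    [IsScalarTower k K L]
    (H : ∀ D : Derivation ℤ k L, ∃ D' : Derivation ℤ K L, ∀ a : k, D' (algebraMap k K a) = D a) :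
    Algebra.IsGeometricallyReduced k K := by
  rw [isGeometricallyReduced_iff_injective_int, ← LinearMap.ker_eq_bot, LinearMap.ker_eq_bot']
  intro z hz
  refine (Module.forall_dual_apply_eq_zero_iff K z).1 fun f => ?_
  let ι : Ω[k⁄ℤ] →ₗ[k] L :=
    ((Algebra.linearMap K L ∘ₗ f).restrictScalars k) ∘ₗ (TensorProduct.mk k K (Ω[k⁄ℤ]) 1)
  obtain ⟨D', hD'⟩ := H (ι.compDer (KaehlerDifferential.D ℤ k))
  have key : ∀ y, D'.liftKaehlerDifferential (KaehlerDifferential.mapBaseChange ℤ k K y) =
      algebraMap K L (f y) := fun y => by
    induction y using TensorProduct.induction_on with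
    | zero => simp
    | add u v hu hv => simp [hu, hv]
    | tmul l ω =>
      have h1 : D'.liftKaehlerDifferential (KaehlerDifferential.map ℤ ℤ k K ω) = ι ω := by
        have hw : ω ∈ Submodule.span k (Set.range (KaehlerDifferential.D ℤ k)) := by
          rw [KaehlerDifferential.span_range_derivation]; trivial
        induction hw using Submodule.span_induction with
        | mem _ h =>
          obtain ⟨a, rfl⟩ := h
          rw [KaehlerDifferential.map_D, Derivation.liftKaehlerDifferential_comp_D, hD']
          rfl
        | zero => simp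
        | add _ _ _ _ h1 h2 => simp [h1, h2]
        | smul a η _ h =>
          rw [map_smul, ← algebraMap_smul K a (KaehlerDifferential.map ℤ ℤ k K η), map_smul,
            algebraMap_smul, h, map_smul]
      rw [KaehlerDifferential.mapBaseChange_tmul, map_smul, h1,
        show l ⊗ₜ[k] ω = l • ((1 : K) ⊗ₜ[k] ω) by rw [TensorProduct.smul_tmul', smul_eq_mul, mul_one],
        map_smul, smul_eq_mul, map_mul, ← Algebra.smul_def]
      rfl
  have := key z
  rw [hz, map_zero, eq_comm] at this
  exact (algebraMap K L).injective (this.trans (map_zero _).symm)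

theorem exists_derivation_extension [Algebra.IsGeometricallyReduced k K] {L : Type u}
    [AddCommGroup L] [Module K L] [Module k L] [IsScalarTower k K L] (D : Derivation ℤ k L) :
    ∃ D' : Derivation ℤ K L, ∀ a : k, D' (algebraMap k K a) = D a := by
  obtain ⟨r, hr⟩ := (KaehlerDifferential.mapBaseChange ℤ k K).exists_leftInverse_of_injective
    (LinearMap.ker_eq_bot.2 injective_mapBaseChange_of_isGeometricallyReduced)
  refine ⟨((D.liftKaehlerDifferential.liftBaseChange K) ∘ₗ r).compDer (KaehlerDifferential.D ℤ K),
    fun a => ?_⟩
  show D.liftKaehlerDifferential.liftBaseChange K (r (KaehlerDifferential.D ℤ K (algebraMap k K a))) = D a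
  have hD : KaehlerDifferential.D ℤ K (algebraMap k K a) =
      KaehlerDifferential.mapBaseChange ℤ k K (1 ⊗ₜ KaehlerDifferential.D ℤ k a) := by
    rw [KaehlerDifferential.mapBaseChange_tmul, one_smul, KaehlerDifferential.map_D]
  rw [hD, ← LinearMap.comp_apply r, hr, LinearMap.id_apply, LinearMap.liftBaseChange_tmul, one_smul,
    Derivation.liftKaehlerDifferential_comp_D]

/-- Separable extensions are formally smooth, whatever the universes. -/
theorem formallySmooth_of_isGeometricallyReduced' {k : Type v} [Field k] {L : Type u} [Field L]
    [Algebra k L] [Algebra.IsGeometricallyReduced k L] : Algebra.FormallySmooth k L := by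
  let k' := (algebraMap k L).fieldRange
  letI : Algebra k k' := ((algebraMap k L).rangeRestrictField).toAlgebra
  haveI : IsScalarTower k k' L := IsScalarTower.of_algebraMap_eq' rfl
  have hbij : Function.Bijective (algebraMap k k') :=
    ⟨RingHom.injective _, fun ⟨y, x, hx⟩ => ⟨x, Subtype.ext hx⟩⟩
  haveI : Algebra.FormallySmooth k k' :=
    Algebra.FormallySmooth.of_equiv (AlgEquiv.ofBijective (Algebra.ofId k k') hbij)
  haveI : Algebra.IsAlgebraic k (AlgebraicClosure k') :=
    haveI : Algebra.IsAlgebraic k k' :=
      (AlgEquiv.ofBijective (Algebra.ofId k k') hbij).isAlgebraic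
    Algebra.IsAlgebraic.trans k k' (AlgebraicClosure k')
  haveI : TensorProduct.CompatibleSMul k k' (AlgebraicClosure k') L := ⟨fun r m n => by
    obtain ⟨x, rfl⟩ := hbij.2 r
    rw [algebraMap_smul, algebraMap_smul, TensorProduct.smul_tmul]⟩
  haveI : Algebra.IsGeometricallyReduced k' L := by
    rw [Algebra.isGeometricallyReduced_field_iff]
    exact isReduced_of_injective
      (Algebra.TensorProduct.equivOfCompatibleSMul k k' k' (AlgebraicClosure k') L).toAlgHom
      (AlgEquiv.injective _)
  haveI := formallySmooth_iff_isGeometricallyReduced.2 ‹Algebra.IsGeometricallyReduced k' L›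
  exact Algebra.FormallySmooth.comp k k' L

end Groth.Agent.PBasis
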