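import Groth.Agent.PBasis.Basic

/-!
# p-bases: independence criterion and the case of fields
-/

set_option autoImplicit false
universe u v

namespace Groth.Agent.PBasis

open EGA41

section Criterion

variable {p : ℕ} {A B : Type u} [CommRing A] [CommRing B] [Algebra A B] {ι : Type u}

theorem isPIndependent_of_forall (x : ι → B)
    (H : ∀ g : MvPolynomial ι (pPowerSubalgebra p A B), (∀ e ∈ g.support, ∀ i, e i < p) →
      MvPolynomial.aeval x g = 0 → g = 0) : IsPIndependent p A x := by
  classical
  refine linearIndependent_iff'.2 fun s c hc => ?_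
  intro e he
  let g : MvPolynomial ι (pPowerSubalgebra p A B) := ∑ e ∈ s, MvPolynomial.monomial e.1 (c e)
  have hg : g = 0 := by
    refine H g (fun d hd i => ?_) ?_
    · obtain ⟨e', -, hd'⟩ := Finset.mem_biUnion.1 (MvPolynomial.support_sum hd)
      rw [Finset.mem_singleton.1 (MvPolynomial.support_monomial_subset hd')]
      exact e'.2 i
    · rw [← hc, map_sum]
      refine Finset.sum_congr rfl fun e' _ => ?_
      rw [MvPolynomial.aeval_monomial, Algebra.smul_def]
      rfl
  have : g.coeff e.1 = c e := by
    simp [g, MvPolynomial.coeff_sum, MvPolynomial.coeff_monomial, ← Subtype.ext_iff, he]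
  rw [hg] at this
  simpa using this.symm

theorem derivation_aeval [CharP B p] {x : ι → B} (a : ι) (D : Derivation A B B) (ha : D (x a) = 1)
    (hb : ∀ b, b ≠ a → D (x b) = 0) (g : MvPolynomial ι (pPowerSubalgebra p A B)) :
    D (MvPolynomial.aeval x g) = MvPolynomial.aeval x (MvPolynomial.pderiv a g) := by
  classical
  induction g using MvPolynomial.induction_on with
  | C c => simpa using derivation_eq_zero_of_mem D c.2
  | add f g hf hg => simp [hf, hg]
  | mul_X f i hf =>
    rw [Derivation.leibniz, map_mul, Derivation.leibniz, hf]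
    by_cases h : i = a
    · subst h; simp [ha]
    · simp [hb i h, MvPolynomial.pderiv_X_of_ne h]

theorem isPIndependent_of_derivations [Fact p.Prime] [CharP B p] {x : ι → B}
    (H : ∀ a, ∃ D : Derivation A B B, D (x a) = 1 ∧ ∀ b, b ≠ a → D (x b) = 0) :
    IsPIndependent p A x := by
  classical
  refine isPIndependent_of_forall x fun g hg h => ?_
  obtain ⟨n, hn⟩ : ∃ n, ∀ e ∈ g.support, e.degree ≤ n :=
    ⟨g.support.sup fun e => e.degree, fun e he => Finset.le_sup (f := fun e => e.degree) he⟩
  induction n using Nat.strong_induction_on generalizing g with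
  | _ n ih =>
    have key : ∀ e ∈ g.support, e = 0 := by
      intro e he
      by_contra hne
      obtain ⟨a, ha⟩ := Finsupp.support_nonempty_iff.2 hne
      obtain ⟨D, hDa, hDb⟩ := H a
      rw [Finsupp.mem_support_iff] at ha
      have hn0 : 0 < n := lt_of_lt_of_le (Nat.pos_of_ne_zero ha) ((Finsupp.le_degree a e).trans (hn e he))
      have hsupp : ∀ m ∈ (MvPolynomial.pderiv a g).support, m + Finsupp.single a 1 ∈ g.support := by
        intro m hm
        rw [MvPolynomial.mem_support_iff, MvPolynomial.coeff_pderiv] at hm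
        exact MvPolynomial.mem_support_iff.2 fun h0 => hm (by rw [h0, zero_mul])
      have h0 := ih (n - 1) (Nat.sub_lt hn0 one_pos) (MvPolynomial.pderiv a g)
        (fun m hm i => lt_of_le_of_lt (by simp) (hg _ (hsupp m hm) i))
        (by rw [← derivation_aeval a D hDa hDb, h, map_zero])
        (fun m hm => by
          have := hn _ (hsupp m hm)
          rw [map_add, Finsupp.degree_single] at this
          omega)
      have he' : e - Finsupp.single a 1 + Finsupp.single a 1 = e :=
        tsub_add_cancel_of_le (Finsupp.single_le_iff.2 (Nat.one_le_iff_ne_zero.2 ha))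
      have hc := congrArg Subtype.val (MvPolynomial.ext_iff.1 h0 (e - Finsupp.single a 1))
      simp only [MvPolynomial.coeff_pderiv, he', MvPolynomial.coeff_zero, Finsupp.tsub_apply,
        Finsupp.single_eq_same] at hc
      rw [show ((e a - 1 : ℕ) : pPowerSubalgebra p A B) + 1 = (e a : pPowerSubalgebra p A B) by
        rw [← Nat.cast_add_one, Nat.sub_add_cancel (Nat.one_le_iff_ne_zero.2 ha)]] at hc
      push_cast at hc
      have hu : IsUnit ((e a : ℕ) : B) := by
        have hcop : Nat.Coprime (e a) p := ((Nat.Prime.coprime_iff_not_dvd Fact.out).2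
          (Nat.not_dvd_of_pos_of_lt (Nat.pos_of_ne_zero ha) (hg e he a))).symm
        have := (ZMod.unitOfCoprime (e a) hcop).isUnit.map (ZMod.castHom (dvd_refl p) B)
        simpa using this
      exact MvPolynomial.mem_support_iff.1 he (Subtype.ext (hu.mul_left_eq_zero.1 hc))
    ext e
    by_cases he : e ∈ g.support
    · have he0 := key e he
      have hsum : MvPolynomial.aeval x g = ((g.coeff 0 : pPowerSubalgebra p A B) : B) := by
        have : g = MvPolynomial.C (g.coeff 0) := by
          ext d
          by_cases hd : d ∈ g.support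
          · rw [key d hd]; simp
          · rw [MvPolynomial.notMem_support_iff.1 hd, MvPolynomial.coeff_C]
            split_ifs with h0
            · subst h0; rw [MvPolynomial.notMem_support_iff.1 hd]
            · rfl
        conv_lhs => rw [this]
        simp
      rw [h] at hsum
      simp [he0, ← hsum]
    · simp [MvPolynomial.notMem_support_iff.1 he]

theorem notMem_adjoin_of_isPIndependent [Fact p.Prime] [Nontrivial B] {x : ι → B}
    (hx : IsPIndependent p A x) (a : ι) :
    x a ∉ Algebra.adjoin (pPowerSubalgebra p A B) (x '' {b | b ≠ a}) := by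
  classical
  intro hmem
  rw [show x '' {b | b ≠ a} = Set.range (fun b : {b // b ≠ a} => x b) by
    ext; simp, Algebra.adjoin_range_eq_range_aeval] at hmem
  obtain ⟨f, hf⟩ := hmem
  have hp : p ≠ 0 := (Fact.out : p.Prime).ne_zero
  obtain ⟨g, hg, hfg⟩ := exists_reduced hp (fun b : {b // b ≠ a} => x b) f
  have h1 := aeval_relIdeal _ hfg
  rw [map_sub, sub_eq_zero] at h1
  let G : MvPolynomial ι (pPowerSubalgebra p A B) :=
    MvPolynomial.X a - MvPolynomial.rename Subtype.val g
  have hG : ∀ e ∈ G.support, ∀ i, e i < p := by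
    intro e he i
    rcases Finset.mem_union.1 (MvPolynomial.support_sub ι _ _ he) with he | he
    · rw [MvPolynomial.support_X] at he
      rw [Finset.mem_singleton.1 he, Finsupp.single_apply]
      split_ifs
      exacts [(Fact.out : p.Prime).one_lt, (Fact.out : p.Prime).pos]
    · rw [MvPolynomial.support_rename_of_injective Subtype.val_injective, Finset.mem_image] at he
      obtain ⟨d, hd, rfl⟩ := he
      by_cases hi : i = a
      · subst hi
        rw [Finsupp.mapDomain_of_notMem_range]
        · exact (Fact.out : p.Prime).pos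
        · simp
      · rw [show i = ((⟨i, hi⟩ : {b // b ≠ a}) : ι) from rfl,
          Finsupp.mapDomain_apply Subtype.val_injective]
        exact hg d hd _
  have hG0 : G = 0 := eq_zero_of_aeval_eq_zero hx hG (by
    simp only [G, map_sub, MvPolynomial.aeval_X, MvPolynomial.aeval_rename]
    rw [show x ∘ Subtype.val = (fun b : {b // b ≠ a} => x b) from rfl, ← h1]
    simpa [sub_eq_zero] using hf.symm)
  have hc := congrArg (fun q => MvPolynomial.coeff (Finsupp.single a 1) q) hG0
  have : ∀ d : {b // b ≠ a} →₀ ℕ, Finsupp.mapDomain Subtype.val d ≠ Finsupp.single a 1 := by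
    intro d hd
    have := congrArg (fun e => e a) hd
    simp only [Finsupp.single_eq_same] at this
    rw [Finsupp.mapDomain_of_notMem_range] at this
    · simp at this
    · simp
  simp only [G, MvPolynomial.coeff_sub, MvPolynomial.coeff_X, MvPolynomial.coeff_zero] at hc
  rw [MvPolynomial.coeff_rename_eq_zero _ _ _ fun d hd => absurd hd (this d), sub_zero] at hc
  exact one_ne_zero (α := B) (congrArg Subtype.val hc)

end Criterion

section Field

variable {p : ℕ} [Fact p.Prime] {k K : Type u} [Field k] [Field K] [Algebra k K]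

theorem inv_mem_of_pow_mem {R : Subalgebra k K} (h : ∀ y : K, y ^ p ∈ R) :
    ∀ y ∈ R, y⁻¹ ∈ R := by
  intro y hy
  rcases eq_or_ne y 0 with rfl | hy0
  · simpa using R.zero_mem
  · have : y⁻¹ = y ^ (p - 1) * (y⁻¹) ^ p := by
      have hp := (Fact.out : p.Prime).one_le
      rw [inv_pow, ← div_eq_mul_inv, eq_div_iff (pow_ne_zero _ hy0), inv_mul_eq_iff_eq_mul₀ hy0,
        ← pow_succ', Nat.sub_add_cancel hp]
    rw [this]
    exact R.mul_mem (R.pow_mem hy _) (h _)

theorem intermediateField_adjoin_eq (S : Set K) :
    ((IntermediateField.adjoin k (Set.range (fun y : K => y ^ p) ∪ S) : IntermediateField k K) : Set K) =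
      Algebra.adjoin (pPowerSubalgebra p k K) S := by
  have h1 : ((Algebra.adjoin (pPowerSubalgebra p k K) S).restrictScalars k) =
      Algebra.adjoin k (Set.range (fun y : K => y ^ p) ∪ S) :=
    (Algebra.adjoin_union_eq_adjoin_adjoin k _ _).symm
  have h2 : ((Algebra.adjoin k (Set.range (fun y : K => y ^ p) ∪ S)) : Set K) =
      Algebra.adjoin (pPowerSubalgebra p k K) S := by rw [← h1]; rfl
  rw [← h2]
  refine Set.Subset.antisymm (fun y hy => ?_) (IntermediateField.algebra_adjoin_le_adjoin k _)
  let M := (Algebra.adjoin k (Set.range (fun y : K => y ^ p) ∪ S)).toIntermediateField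
    (inv_mem_of_pow_mem (p := p) fun y => Algebra.subset_adjoin (Or.inl ⟨y, rfl⟩))
  exact (IntermediateField.adjoin_le_iff (T := M)).2 Algebra.subset_adjoin hy

open Polynomial in
/-- An element outside an intermediate field containing all p-th powers has a derivative. -/
theorem exists_derivation_apply_eq_one [CharP K p] (F : IntermediateField k K)
    (hF : ∀ y : K, y ^ p ∈ F) {t : K} (ht : t ∉ F) :
    ∃ D : Derivation k K K, (∀ f ∈ F, D f = 0) ∧ D t = 1 := by
  obtain ⟨M, hFM, ⟨-, htM⟩, hmax⟩ : ∃ M, F ≤ M ∧ (F ≤ M ∧ t ∉ M) ∧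
      ∀ N : IntermediateField k K, F ≤ N ∧ t ∉ N → M ≤ N → N ≤ M := by
    obtain ⟨M, hFM, hM⟩ := zorn_le_nonempty₀ {M : IntermediateField k K | F ≤ M ∧ t ∉ M}
      (fun c hc hchain y hy => by
        refine ⟨sSup c, ⟨(hc hy).1.trans (le_sSup hy), fun hts => ?_⟩, fun z hz => le_sSup hz⟩
        have : Nonempty c := ⟨⟨y, hy⟩⟩
        rw [sSup_eq_iSup', ← SetLike.mem_coe,
          IntermediateField.coe_iSup_of_directed hchain.directedOn.directed_val] at hts
        obtain ⟨⟨N, hN⟩, hN'⟩ := Set.mem_iUnion.1 hts
        exact (hc hN).2 hN') F ⟨le_rfl, ht⟩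
    exact ⟨M, hFM, hM.1, fun N hN hMN => hM.2 hN hMN⟩
  have hpM : ∀ y : K, y ^ p ∈ M := fun y => hFM (hF y)
  have hroot : ∀ b : M, (b : K) ^ p ≠ t ^ p := fun b h => htM (by
    have := (iff_of_eq (congrArg (· ∈ M) ((frobenius_inj K p) h))).1 b.2
    exact this)
  have hmin : minpoly M t = X ^ p - C (⟨t ^ p, hpM t⟩ : M) := by
    refine (minpoly.eq_of_irreducible_of_monic ?_ ?_ ?_).symm
    · exact X_pow_sub_C_irreducible_of_prime Fact.out fun b h => hroot b (congrArg Subtype.val h)
    · simp
    · exact monic_X_pow_sub_C _ (Fact.out : p.Prime).ne_zero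
  have hgen : Algebra.adjoin M {t} = ⊤ := by
    refine top_unique fun y _ => ?_
    let N : IntermediateField k K := ((Algebra.adjoin M {t}).restrictScalars k).toIntermediateField
      (inv_mem_of_pow_mem (p := p) fun z => (Algebra.adjoin M {t}).algebraMap_mem ⟨_, hpM z⟩)
    by_contra hy
    have hMy : M ≤ IntermediateField.adjoin k ((M : Set K) ∪ {y}) := fun m hm =>
      IntermediateField.subset_adjoin _ _ (Or.inl hm)
    by_cases hty : t ∈ IntermediateField.adjoin k ((M : Set K) ∪ {y})
    · have hint : IsIntegral M y := IsIntegral.of_pow (Fact.out : p.Prime).pos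
        (isIntegral_algebraMap (x := (⟨y ^ p, hpM y⟩ : M)))
      have hyM : y ∉ M := fun h => hy ((Algebra.adjoin M {t}).algebraMap_mem ⟨y, h⟩)
      have hmy : minpoly M y = X ^ p - C (⟨y ^ p, hpM y⟩ : M) := by
        refine (minpoly.eq_of_irreducible_of_monic ?_ ?_ ?_).symm
        · refine X_pow_sub_C_irreducible_of_prime Fact.out fun b h => hyM ?_
          have := (iff_of_eq (congrArg (· ∈ M) ((frobenius_inj K p) (congrArg Subtype.val h : (b : K) ^ p = y ^ p)))).1 b.2
          exact this
        · simp
        · exact monic_X_pow_sub_C _ (Fact.out : p.Prime).ne_zero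
      have hty' : t ∈ IntermediateField.adjoin M {y} := by
        have := IntermediateField.adjoin_adjoin_left k (M : Set K) ({y} : Set K)
        rw [← IntermediateField.restrictScalars_adjoin k M ({y} : Set K)] at hty
        exact hty
      have hle : IntermediateField.adjoin M {t} ≤ IntermediateField.adjoin M {y} :=
        IntermediateField.adjoin_le_iff.2 (Set.singleton_subset_iff.2 hty')
      haveI : FiniteDimensional M (IntermediateField.adjoin M {y}) :=
        IntermediateField.adjoin.finiteDimensional hint
      have heq : IntermediateField.adjoin M {t} = IntermediateField.adjoin M {y} := by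
        refine IntermediateField.eq_of_le_of_finrank_eq hle ?_
        rw [IntermediateField.adjoin.finrank
            (IsIntegral.of_pow (Fact.out : p.Prime).pos (isIntegral_algebraMap (x := (⟨t ^ p, hpM t⟩ : M)))),
          IntermediateField.adjoin.finrank hint, hmin, hmy]
        simp
      have : y ∈ IntermediateField.adjoin M {t} := heq ▸ IntermediateField.mem_adjoin_simple_self M y
      rw [← IntermediateField.mem_toSubalgebra, IntermediateField.adjoin_simple_toSubalgebra_of_isAlgebraic
        (IsIntegral.of_pow (Fact.out : p.Prime).pos (isIntegral_algebraMap (x := (⟨t ^ p, hpM t⟩ : M)))).isAlgebraic] at this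
      exact hy this
    · exact hy ((Algebra.adjoin M {t}).algebraMap_mem
        ⟨y, hmax _ ⟨hFM.trans hMy, hty⟩ hMy (IntermediateField.subset_adjoin _ _ (Or.inr rfl))⟩)
  let π := (Polynomial.aeval t : M[X] →ₐ[M] K).toRingHom
  have hπ : Function.Surjective π := by
    intro y
    have : y ∈ Algebra.adjoin M {t} := by rw [hgen]; trivial
    rw [Algebra.adjoin_singleton_eq_range_aeval] at this
    exact this
  let ψ : M[X] →+* TrivSqZeroExt K K :=
    Polynomial.eval₂RingHom ((TrivSqZeroExt.inlHom K K).comp (algebraMap M K))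
      (TrivSqZeroExt.inl t + TrivSqZeroExt.inr 1)
  have hk : RingHom.ker π ≤ RingHom.ker ψ := by
    intro f hf
    obtain ⟨g, rfl⟩ := minpoly.dvd M t (show Polynomial.aeval t f = 0 from hf)
    rw [RingHom.mem_ker, map_mul]
    suffices ψ (minpoly M t) = 0 by rw [this, zero_mul]
    rw [hmin]
    refine TrivSqZeroExt.ext (by simp [ψ]) ?_
    simp [ψ, CharP.cast_eq_zero]
  have hlift := RingHom.liftOfRightInverse_comp_apply π _ (Function.rightInverse_surjInv hπ) ⟨ψ, hk⟩
  set w := RingHom.liftOfRightInverse π _ (Function.rightInverse_surjInv hπ) ⟨ψ, hk⟩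
  have hM : ∀ m : M, w (m : K) = TrivSqZeroExt.inl (m : K) := fun m => by
    simpa [π, ψ] using hlift (Polynomial.C m)
  have ht' : w t = TrivSqZeroExt.inl t + TrivSqZeroExt.inr 1 := by
    simpa [π, ψ] using hlift Polynomial.X
  have hfst : ∀ y, TrivSqZeroExt.fst (w y) = y := fun y => by
    obtain ⟨f, rfl⟩ := hπ y
    have : ((TrivSqZeroExt.fstHom ℕ K K).toRingHom.comp ψ) = π :=
      Polynomial.ringHom_ext (fun m => by simp [ψ, π]) (by simp [ψ, π])
    simpa [hlift] using congr($this f)
  refine ⟨Derivation.mk'
    { toFun := fun y => TrivSqZeroExt.snd (w y)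
      map_add' := fun a b => by simp
      map_smul' := fun c y => by
        have hc : w (algebraMap k K c) = TrivSqZeroExt.inl (algebraMap k K c) :=
          hM ⟨algebraMap k K c, M.algebraMap_mem c⟩
        simp [Algebra.smul_def, hc, hfst] } (fun a b => by simp [hfst, mul_comm]),
    fun f hf => ?_, ?_⟩
  · show TrivSqZeroExt.snd (w ((⟨f, hFM hf⟩ : M) : K)) = 0
    rw [hM]; simp
  · show TrivSqZeroExt.snd (w t) = 1
    rw [ht']; simp

theorem exists_derivation_of_notMem_adjoin [CharP K p] {ι : Type u} (x : ι → K) (S : Set ι) {t : K}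
    (ht : t ∉ Algebra.adjoin (pPowerSubalgebra p k K) (x '' S)) :
    ∃ D : Derivation k K K, (∀ b ∈ S, D (x b) = 0) ∧ D t = 1 := by
  obtain ⟨D, hD, hDt⟩ := exists_derivation_apply_eq_one (p := p)
    (IntermediateField.adjoin k (Set.range (fun y : K => y ^ p) ∪ x '' S))
    (fun y => IntermediateField.subset_adjoin _ _ (Or.inl ⟨y, rfl⟩)) (t := t) (by
      rw [← SetLike.mem_coe, intermediateField_adjoin_eq]; exact ht)
  exact ⟨D, fun b hb => hD _ (IntermediateField.subset_adjoin _ _ (Or.inr ⟨b, hb, rfl⟩)), hDt⟩

variable [CharP K p] {ι : Type u} (x : ι → K)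

theorem isPIndependent_iff_notMem : IsPIndependent p k x ↔
    ∀ a, x a ∉ Algebra.adjoin (pPowerSubalgebra p k K) (x '' {b | b ≠ a}) :=
  ⟨notMem_adjoin_of_isPIndependent, fun h => isPIndependent_of_derivations fun a => by
    obtain ⟨D, hD, hDt⟩ := exists_derivation_of_notMem_adjoin x {b | b ≠ a} (h a)
    exact ⟨D, hDt, hD⟩⟩

theorem isPIndependent_iff_linearIndependent : IsPIndependent p k x ↔
    LinearIndependent K (fun i => KaehlerDifferential.D k K (x i)) := by
  constructor
  · intro h
    rw [linearIndependent_iff']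
    intro s c hc a ha
    obtain ⟨D, hD, hDt⟩ := exists_derivation_of_notMem_adjoin x {b | b ≠ a}
      (notMem_adjoin_of_isPIndependent h a)
    have := congrArg D.liftKaehlerDifferential hc
    simp only [map_sum, map_smul, Derivation.liftKaehlerDifferential_comp_D, map_zero] at this
    rwa [Finset.sum_eq_single a (fun b _ hb => by rw [hD b hb, smul_zero])
      (fun h => absurd ha h), hDt, smul_eq_mul, mul_one] at this
  · intro h
    refine isPIndependent_of_derivations fun a => ?_
    obtain ⟨f, hf⟩ := LinearMap.exists_extend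
      (Finsupp.lapply a ∘ₗ h.repr : Submodule.span K (Set.range fun i => KaehlerDifferential.D k K (x i)) →ₗ[K] K)
    have hval : ∀ b, f (KaehlerDifferential.D k K (x b)) = Finsupp.single b (1 : K) a := fun b => by
      have := LinearMap.congr_fun hf ⟨_, Submodule.subset_span ⟨b, rfl⟩⟩
      simp only [LinearMap.comp_apply, Submodule.subtype_apply] at this
      rw [this, h.repr_eq_single b ⟨_, Submodule.subset_span ⟨b, rfl⟩⟩ rfl]
      rfl
    exact ⟨f.compDer (KaehlerDifferential.D k K), by simp [hval], fun b hb => by simp [hval, hb]⟩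

theorem isPGenerating_iff_span : IsPGenerating p k x ↔
    Submodule.span K (Set.range fun i => KaehlerDifferential.D k K (x i)) = ⊤ := by
  rw [isPGenerating_iff (Fact.out : p.Prime).ne_zero]
  constructor
  · intro h
    rw [← top_le_iff, ← KaehlerDifferential.span_range_derivation k K, Submodule.span_le]
    rintro _ ⟨y, rfl⟩
    have hy : y ∈ Algebra.adjoin (pPowerSubalgebra p k K) (Set.range x) := by rw [h]; trivial
    induction hy using Algebra.adjoin_induction with
    | mem _ hy => obtain ⟨i, rfl⟩ := hy; exact Submodule.subset_span ⟨i, rfl⟩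
    | algebraMap a =>
      obtain ⟨a, ha⟩ := a
      show KaehlerDifferential.D k K a ∈ _
      induction ha using Algebra.adjoin_induction with
      | mem _ hy =>
        obtain ⟨c, rfl⟩ := hy
        rw [Derivation.leibniz_pow, ← Nat.cast_smul_eq_nsmul K, CharP.cast_eq_zero, zero_smul]
        exact Submodule.zero_mem _
      | algebraMap c => simp
      | add _ _ _ _ h1 h2 => rw [map_add]; exact Submodule.add_mem _ h1 h2
      | mul a b _ _ h1 h2 =>
        rw [Derivation.leibniz]
        exact Submodule.add_mem _ (Submodule.smul_mem _ a h2) (Submodule.smul_mem _ b h1)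
    | add _ _ _ _ h1 h2 =>
      rw [SetLike.mem_coe, map_add]; exact Submodule.add_mem _ h1 h2
    | mul a b _ _ h1 h2 =>
      rw [SetLike.mem_coe, Derivation.leibniz]
      exact Submodule.add_mem _ (Submodule.smul_mem _ a h2) (Submodule.smul_mem _ b h1)
  · intro h
    refine top_unique fun t _ => ?_
    by_contra ht
    rw [← Set.image_univ] at ht
    obtain ⟨D, hD, hDt⟩ := exists_derivation_of_notMem_adjoin x Set.univ ht
    have h0 : D.liftKaehlerDifferential = 0 := by
      refine LinearMap.ext_on_range h fun i => ?_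
      simp [hD i trivial]
    have := D.liftKaehlerDifferential_comp_D t
    rw [h0, hDt] at this
    exact zero_ne_one this

end Field

end Groth.Agent.PBasis
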