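import Groth.Agent.PBasis.Field
import Groth.Agent.S4541
import Groth.Agent.S2467
import Groth.Agent.GeomRed.Alg

/-!
# Separable field extensions and formal smoothness
-/

set_option autoImplicit false
universe u

open scoped TensorProduct

namespace Groth.Agent.PBasis

open EGA41

theorem exists_pBasis (p : ℕ) [Fact p.Prime] (k K : Type u) [Field k] [Field K] [Algebra k K]
    [CharP K p] : ∃ S : Set K, IsPBasis p k (Subtype.val : S → K) := by
  have hp : p ≠ 0 := (Fact.out : p.Prime).ne_zero
  have huniv : IsPGenerating p k (Subtype.val : ↥(Set.univ : Set K) → K) := by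
    rw [isPGenerating_iff hp, Subtype.range_coe]
    exact Algebra.adjoin_univ _ _
  have hempty : IsPIndependent p k (Subtype.val : ↥(∅ : Set K) → K) :=
    (isPIndependent_iff_linearIndependent _).2 linearIndependent_empty_type
  obtain ⟨S, -, -, hS⟩ := Groth.Agent.S2467.result p (k := k) Set.univ ∅ (Set.empty_subset _) huniv hempty
  exact ⟨S, hS⟩

section

variable (p : ℕ) [Fact p.Prime]

variable {k K : Type u} [Field k] [Field K] [Algebra k K] [CharP k p] [CharP K p]
variable {P : Type u} [Field P] [Algebra P k] [Algebra P K] [IsScalarTower P k K] [CharP P p]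
  [PerfectRing P p]

theorem injective_mapBaseChange_iff {ι : Type u} (x : ι → k) (hx : IsPBasis p P x) :
    Function.Injective (KaehlerDifferential.mapBaseChange P k K) ↔
      IsPIndependent p P (fun i => algebraMap k K (x i)) := by
  classical
  obtain ⟨b, hb⟩ : ∃ b : Module.Basis ι k (Ω[k⁄P]), ∀ i, b i = KaehlerDifferential.D P k (x i) :=
    ⟨Module.Basis.mk ((isPIndependent_iff_linearIndependent x).1 hx.1)
      ((isPGenerating_iff_span x).1 hx.2).ge, fun i => Module.Basis.mk_apply _ _ i⟩
  let B : Module.Basis ι K (K ⊗[k] Ω[k⁄P]) := Algebra.TensorProduct.basis K b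
  have hv : (fun i => KaehlerDifferential.D P K (algebraMap k K (x i))) =
      KaehlerDifferential.mapBaseChange P k K ∘ B := by
    funext i
    simp [B, hb, KaehlerDifferential.mapBaseChange_tmul]
  rw [isPIndependent_iff_linearIndependent, hv]
  refine ⟨fun h => B.linearIndependent.map' _ (LinearMap.ker_eq_bot.2 h), fun h => ?_⟩
  rw [← LinearMap.ker_eq_bot, LinearMap.ker_eq_bot']
  intro z hz
  rw [← B.linearCombination_repr z, Finsupp.apply_linearCombination] at hz
  rw [← B.repr.map_eq_zero_iff]
  exact linearIndependent_iff.1 h _ hz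

include p in
theorem formallySmooth_iff_injective_mapBaseChange :
    Algebra.FormallySmooth k K ↔ Function.Injective (KaehlerDifferential.mapBaseChange P k K) := by
  obtain ⟨S, hS⟩ := exists_pBasis p P K
  haveI : Algebra.FormallySmooth P K := (Groth.Agent.S4541.result p _ hS).1
  have h1 := Algebra.H1Cotangent.exact_map_δ (R := P) (S := k) (T := K)
  have h2 := Algebra.H1Cotangent.exact_δ_mapBaseChange (R := P) (S := k) (T := K)
  constructor
  · intro _
    rw [← LinearMap.ker_eq_bot, h2.linearMap_ker_eq, LinearMap.range_eq_bot]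
    exact LinearMap.ext fun z => by simp [Subsingleton.elim z 0]
  · intro h
    refine ⟨inferInstance, subsingleton_of_forall_eq 0 fun z => ?_⟩
    obtain ⟨y, rfl⟩ := (h1 z).1 (h (by rw [(h2 _).2 ⟨z, rfl⟩, map_zero]))
    simp [Subsingleton.elim y 0]

theorem exists_pow_eq' {B : Type u} [CommRing B] [Algebra P B] [CharP B p] {c : B}
    (hc : c ∈ pPowerSubalgebra p P B) : ∃ b, b ^ p = c :=
  Groth.Agent.S4541.exists_pow_eq p hc

theorem isPIndependent_of_isGeometricallyReduced [Algebra.IsGeometricallyReduced k K] {ι : Type u}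
    (x : ι → k) (hx : IsPIndependent p P x) :
    IsPIndependent p P (fun i => algebraMap k K (x i)) := by
  classical
  refine isPIndependent_of_forall _ fun g hg h0 => ?_
  choose γ hγ using fun c : pPowerSubalgebra p P K => exists_pow_eq' p c.2
  haveI : CharP (AlgebraicClosure k) p := charP_of_injective_algebraMap
    (algebraMap k (AlgebraicClosure k)).injective p
  choose β hβ using fun i => IsAlgClosed.exists_pow_nat_eq
    (algebraMap k (AlgebraicClosure k) (x i)) (Fact.out : p.Prime).pos
  let T := AlgebraicClosure k ⊗[k] K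
  have hT : (p : T) = 0 := by
    rw [← map_natCast (algebraMap k T), CharP.cast_eq_zero, map_zero]
  have hfr : ∀ (s : Finset (ι →₀ ℕ)) (f : (ι →₀ ℕ) → T), (∑ e ∈ s, f e) ^ p = ∑ e ∈ s, f e ^ p := by
    intro s f
    induction s using Finset.induction_on with
    | empty => simp [(Fact.out : p.Prime).ne_zero]
    | insert e s he ih => rw [Finset.sum_insert he, Finset.sum_insert he,
        add_pow_of_cast_eq_zero hT, ih]
  let z : T := ∑ e ∈ g.support, (pMonomial β e) ⊗ₜ[k] γ (g.coeff e)
  have hz : z ^ p = 0 := by
    rw [hfr]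
    have hterm : ∀ e, (pMonomial β e ⊗ₜ[k] γ (g.coeff e)) ^ p =
        (1 : AlgebraicClosure k) ⊗ₜ[k]
          (((g.coeff e : pPowerSubalgebra p P K) : K) * pMonomial (fun i => algebraMap k K (x i)) e) := fun e => by
      rw [Algebra.TensorProduct.tmul_pow, hγ]
      have : pMonomial β e ^ p = pMonomial x e • (1 : AlgebraicClosure k) := by
        rw [← Algebra.algebraMap_eq_smul_one]
        simp only [pMonomial, Finsupp.prod]
        rw [← Finset.prod_pow, map_prod]
        refine Finset.prod_congr rfl fun i _ => ?_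
        rw [map_pow, ← hβ, ← pow_mul, ← pow_mul, mul_comm]
      rw [this, TensorProduct.smul_tmul]
      congr 1
      rw [Algebra.smul_def, mul_comm]
      simp [pMonomial, map_finsuppProd, map_pow]
    rw [Finset.sum_congr rfl fun e _ => hterm e, ← TensorProduct.tmul_sum]
    convert TensorProduct.tmul_zero K (1 : AlgebraicClosure k) using 2
    rw [← h0]
    conv_rhs => rw [g.as_sum, map_sum]
    refine Finset.sum_congr rfl fun e _ => ?_
    rw [MvPolynomial.aeval_monomial]
    rfl
  haveI : IsReduced T := (Algebra.isGeometricallyReduced_field_iff k K).1 inferInstance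
  have hz0 : z = 0 := IsNilpotent.eq_zero (show IsNilpotent z from ⟨p, hz⟩)
  have hli : LinearIndependent k (fun e : {e : ι →₀ ℕ // ∀ i, e i < p} => pMonomial β e.1) := by
    rw [linearIndependent_iff']
    intro s a ha e he
    have h' : ∑ e ∈ s, (⟨a e ^ p, pow_mem' p P (a e)⟩ : pPowerSubalgebra p P k) • pMonomial x e.1 = 0 := by
      apply (algebraMap k (AlgebraicClosure k)).injective
      rw [map_sum, map_zero]
      have := congrArg (frobenius (AlgebraicClosure k) p) ha
      rw [map_sum, map_zero] at this
      rw [← this]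
      refine Finset.sum_congr rfl fun e _ => ?_
      rw [Algebra.smul_def, map_mul]
      simp only [frobenius_def, Algebra.smul_def, mul_pow]
      congr 1
      · show algebraMap k _ (a e ^ p) = _
        rw [map_pow]
      · simp only [pMonomial, Finsupp.prod]
        rw [← Finset.prod_pow, map_prod]
        refine Finset.prod_congr rfl fun i _ => ?_
        rw [map_pow, ← hβ, ← pow_mul, ← pow_mul, mul_comm]
    have := congrArg Subtype.val (linearIndependent_iff'.1 hx s _ h' e he)
    exact pow_eq_zero_iff (Fact.out : p.Prime).ne_zero |>.1 this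
  ext e
  by_cases he : e ∈ g.support
  swap
  · simp [MvPolynomial.notMem_support_iff.1 he]
  obtain ⟨f, hf⟩ := LinearMap.exists_extend
    (Finsupp.lapply ⟨e, hg e he⟩ ∘ₗ hli.repr :
      Submodule.span k (Set.range fun e : {e : ι →₀ ℕ // ∀ i, e i < p} => pMonomial β e.1) →ₗ[k] k)
  have hval : ∀ d : {e : ι →₀ ℕ // ∀ i, e i < p},
      f (pMonomial β d.1) = if d.1 = e then 1 else 0 := fun d => by
    have := LinearMap.congr_fun hf ⟨_, Submodule.subset_span ⟨d, rfl⟩⟩
    simp only [LinearMap.comp_apply, Submodule.subtype_apply] at this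
    rw [this, hli.repr_eq_single d ⟨_, Submodule.subset_span ⟨d, rfl⟩⟩ rfl]
    simp [Finsupp.single_apply, Subtype.ext_iff, eq_comm]
  have := congrArg ((TensorProduct.lid k K).toLinearMap ∘ₗ f.rTensor K) hz0
  simp only [z, map_sum, LinearMap.comp_apply, LinearMap.rTensor_tmul, map_zero,
    LinearEquiv.coe_coe, TensorProduct.lid_tmul] at this
  rw [Finset.sum_eq_single e (fun d hd hde => by rw [hval ⟨d, hg d hd⟩, if_neg hde, zero_smul])
    (fun h => absurd he h), hval ⟨e, hg e he⟩, if_pos rfl, one_smul] at this
  rw [MvPolynomial.coeff_zero, ZeroMemClass.coe_zero]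
  rw [← hγ, this, zero_pow (Fact.out : p.Prime).ne_zero]

theorem linearIndependent_pow_of_isPIndependent {ι : Type u} (x : ι → k) (hx : IsPBasis p P x)
    (hK : IsPIndependent p P (fun i => algebraMap k K (x i))) {m : ℕ} (s : Fin m → K)
    (hs : LinearIndependent k s) : LinearIndependent k (fun j => s j ^ p) := by
  classical
  rw [Fintype.linearIndependent_iff]
  intro a ha
  have hexp : ∀ j, ∃ (U : Finset {e : ι →₀ ℕ // ∀ i, e i < p}) (c : _ → k),
      a j = ∑ e ∈ U, c e ^ p * pMonomial x e.1 := by
    intro j
    have hj : a j ∈ Submodule.span (pPowerSubalgebra p P k)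
        (Set.range fun e : {e : ι →₀ ℕ // ∀ i, e i < p} => pMonomial x e.1) := by
      rw [hx.2]; trivial
    obtain ⟨l, hl⟩ := Finsupp.mem_span_range_iff_exists_finsupp.1 hj
    choose c hc using fun r : pPowerSubalgebra p P k => exists_pow_eq' p r.2
    refine ⟨l.support, fun e => c (l e), ?_⟩
    rw [← hl]
    exact Finset.sum_congr rfl fun e _ => by simp only [hc, Algebra.smul_def]; rfl
  choose U c hc using hexp
  let V := Finset.univ.biUnion U
  let d : Fin m → {e : ι →₀ ℕ // ∀ i, e i < p} → k := fun j e => if e ∈ U j then c j e else 0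
  have hd : ∀ j, a j = ∑ e ∈ V, d j e ^ p * pMonomial x e.1 := fun j => by
    rw [← Finset.sum_subset (Finset.subset_biUnion_of_mem U (Finset.mem_univ j))
      (fun e _ he => by simp [d, he, (Fact.out : p.Prime).ne_zero]), hc j]
    exact Finset.sum_congr rfl fun e he => by simp [d, he]
  let w : {e : ι →₀ ℕ // ∀ i, e i < p} → pPowerSubalgebra p P K := fun e =>
    ⟨(∑ j, algebraMap k K (d j e) * s j) ^ p, pow_mem' p P _⟩
  have h' : ∑ e ∈ V, w e • pMonomial (fun i => algebraMap k K (x i)) e.1 = 0 := by
    rw [← ha]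
    have : ∀ j, a j • s j ^ p =
        ∑ e ∈ V, (algebraMap k K (d j e) * s j) ^ p * pMonomial (fun i => algebraMap k K (x i)) e.1 := by
      intro j
      rw [hd j, Algebra.smul_def, map_sum, Finset.sum_mul]
      refine Finset.sum_congr rfl fun e _ => ?_
      simp only [map_mul, map_pow, mul_pow, pMonomial, map_finsuppProd]
      ring
    rw [Finset.sum_congr rfl fun j _ => this j, Finset.sum_comm]
    refine Finset.sum_congr rfl fun e _ => ?_
    rw [Algebra.smul_def, ← Finset.sum_mul, ← sum_pow_char p]
    rfl
  intro j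
  have key : ∀ e ∈ V, d j e = 0 := fun e he => by
    have h0 := congrArg Subtype.val (linearIndependent_iff'.1 hK V w h' e he)
    have h1 : ∑ j, d j e • s j = 0 := by
      simpa [Algebra.smul_def] using (pow_eq_zero_iff (Fact.out : p.Prime).ne_zero).1 h0
    exact Fintype.linearIndependent_iff.1 hs _ h1 j
  rw [hd j]
  exact Finset.sum_eq_zero fun e he => by rw [key e he, zero_pow (Fact.out : p.Prime).ne_zero, zero_mul]

end

theorem isGeometricallyReduced_of_linearIndependent_pow (p : ℕ) [Fact p.Prime] {k K : Type u}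
    [Field k] [Field K] [Algebra k K] [CharP k p]
    (H : ∀ {m : ℕ} (s : Fin m → K), LinearIndependent k s → LinearIndependent k fun j => s j ^ p) :
    Algebra.IsGeometricallyReduced k K := by
  classical
  rw [Algebra.isGeometricallyReduced_field_iff, isReduced_iff_pow_one_lt p (Fact.out : p.Prime).one_lt]
  intro z hz
  obtain ⟨b⟩ : Nonempty (Module.Basis (Module.Free.ChooseBasisIndex k K) k K) :=
    ⟨Module.Free.chooseBasis k K⟩
  let e := TensorProduct.equivFinsuppOfBasisRight (M := AlgebraicClosure k) b
  haveI : CharP (AlgebraicClosure k) p := charP_of_injective_algebraMap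
    (algebraMap k (AlgebraicClosure k)).injective p
  obtain ⟨c, hc⟩ : ∃ c, c = e z := ⟨_, rfl⟩
  have hz' : z = ∑ i ∈ c.support, (c i) ⊗ₜ[k] b i := by
    rw [hc]
    conv_lhs => rw [← e.symm_apply_apply z, TensorProduct.equivFinsuppOfBasisRight_symm_apply]
    rfl
  let σ : Fin c.support.card ≃ c.support := c.support.equivFin.symm
  have hli : LinearIndependent k (fun j => b (σ j) ^ p) :=
    H (fun j => b (σ j)) (b.linearIndependent.comp _ (Subtype.val_injective.comp σ.injective))
  haveI : CharP (AlgebraicClosure k ⊗[k] K) p :=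
    charP_of_injective_algebraMap (algebraMap k (AlgebraicClosure k ⊗[k] K)).injective p
  have hsum : ∑ j, ((c (σ j)) ^ p) ⊗ₜ[k] ((b (σ j)) ^ p) = 0 := by
    rw [← hz, hz', sum_pow_char p]
    refine Eq.trans ?_ (Finset.sum_coe_sort c.support _)
    exact Fintype.sum_equiv σ (fun j => (c (σ j) ^ p) ⊗ₜ[k] (b (σ j) ^ p))
      (fun i => (c i.1 ⊗ₜ[k] b i.1) ^ p) fun j => (Algebra.TensorProduct.tmul_pow _ _ _).symm
  have hzero : ∀ i ∈ c.support, c i = 0 := fun i hi => by
    obtain ⟨f, hf⟩ := LinearMap.exists_extend
      (Finsupp.lapply (σ.symm ⟨i, hi⟩) ∘ₗ hli.repr :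
        Submodule.span k (Set.range fun j => b (σ j) ^ p) →ₗ[k] k)
    have hval : ∀ j, f (b (σ j) ^ p) = if j = σ.symm ⟨i, hi⟩ then 1 else 0 := fun j => by
      have := LinearMap.congr_fun hf ⟨_, Submodule.subset_span ⟨j, rfl⟩⟩
      simp only [LinearMap.comp_apply, Submodule.subtype_apply] at this
      rw [this, hli.repr_eq_single j ⟨_, Submodule.subset_span ⟨j, rfl⟩⟩ rfl]
      simp [Finsupp.single_apply, eq_comm]
    have := congrArg ((TensorProduct.rid k (AlgebraicClosure k)).toLinearMap ∘ₗ
      f.lTensor (AlgebraicClosure k)) hsum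
    simp only [map_sum, LinearMap.comp_apply, LinearMap.lTensor_tmul, map_zero, hval,
      LinearEquiv.coe_coe, TensorProduct.rid_tmul, ite_smul, one_smul, zero_smul,
      Finset.sum_ite_eq', Finset.mem_univ, if_true, Equiv.apply_symm_apply] at this
    exact (pow_eq_zero_iff (Fact.out : p.Prime).ne_zero).1 this
  rw [hz']
  exact Finset.sum_eq_zero fun i hi => by rw [hzero i hi, TensorProduct.zero_tmul]

/-- A field extension is formally smooth iff it is separable. -/
theorem formallySmooth_iff_isGeometricallyReduced {k K : Type u} [Field k] [Field K] [Algebra k K] :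
    Algebra.FormallySmooth k K ↔ Algebra.IsGeometricallyReduced k K := by
  obtain _ | ⟨p, hp, hk⟩ := CharP.exists' k
  · haveI : CharZero K := charZero_of_injective_algebraMap (algebraMap k K).injective
    refine iff_of_true ?_ ?_
    · obtain ⟨ι, x, hx⟩ := exists_isTranscendenceBasis' k K
      haveI := hx.isAlgebraic_field
      exact Algebra.FormallySmooth.of_algebraicIndependent_of_isSeparable hx.1
    · rw [Algebra.isGeometricallyReduced_field_iff]
      exact Groth.Agent.GeomRed.isReduced_baseChange_algebraic K (AlgebraicClosure k)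
  · haveI := hk
    haveI : CharP K p := charP_of_injective_algebraMap (algebraMap k K).injective p
    letI : Algebra (ULift.{u} (ZMod p)) k :=
      ((ZMod.castHom (dvd_refl p) k).comp ULift.ringEquiv.toRingHom).toAlgebra
    letI : Algebra (ULift.{u} (ZMod p)) K :=
      ((algebraMap k K).comp (algebraMap (ULift.{u} (ZMod p)) k)).toAlgebra
    haveI : IsScalarTower (ULift.{u} (ZMod p)) k K := IsScalarTower.of_algebraMap_eq' rfl
    obtain ⟨S, hS⟩ := exists_pBasis p (ULift.{u} (ZMod p)) k
    rw [formallySmooth_iff_injective_mapBaseChange p (P := ULift.{u} (ZMod p)),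
      injective_mapBaseChange_iff p _ hS]
    exact ⟨fun h => isGeometricallyReduced_of_linearIndependent_pow p
        (fun {m} s hs => linearIndependent_pow_of_isPIndependent p _ hS h s hs),
      fun _ => isPIndependent_of_isGeometricallyReduced p _ hS.1⟩

end Groth.Agent.PBasis
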