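import Groth.Prelude.Def_EGA41
import Mathlib

/-!
# p-bases: presentation, lifting, derivations
-/

set_option autoImplicit false
universe u v

open scoped TensorProduct

namespace Groth.Agent.PBasis

open EGA41

section general

variable (p : ℕ) {A B : Type u} [CommRing A] [CommRing B] [Algebra A B] {ι : Type u}

variable (A) in
theorem pow_mem' (b : B) : b ^ p ∈ pPowerSubalgebra p A B := Algebra.subset_adjoin ⟨b, rfl⟩

variable {p}

/-- The relation `x i ^ p = c i` holds in the adjoined polynomial ring. -/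
noncomputable def relIdeal (p : ℕ) {A B : Type u} [CommRing A] [CommRing B] [Algebra A B] {ι : Type u} (x : ι → B) : Ideal (MvPolynomial ι (pPowerSubalgebra p A B)) :=
  Ideal.span (Set.range fun i =>
    MvPolynomial.X i ^ p - MvPolynomial.C (⟨x i ^ p, pow_mem' p A (x i)⟩ : (pPowerSubalgebra p A B)))

theorem exists_reduced (hp : p ≠ 0) (x : ι → B) (f : MvPolynomial ι (pPowerSubalgebra p A B)) :
    ∃ g : MvPolynomial ι (pPowerSubalgebra p A B), (∀ e ∈ g.support, ∀ i, e i < p) ∧ f - g ∈ (relIdeal (A := A) p x) := by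
  classical
  induction f using MvPolynomial.induction_on' with
  | monomial e c =>
    obtain ⟨n, hn⟩ : ∃ n, n = e.degree := ⟨_, rfl⟩
    induction n using Nat.strong_induction_on generalizing e c with
    | _ n ih =>
      by_cases h : ∀ i, e i < p
      · refine ⟨MvPolynomial.monomial e c, fun e' he' => ?_, by simp⟩
        rw [Finset.mem_singleton.1 (MvPolynomial.support_monomial_subset he')]
        exact h
      · obtain ⟨i, hi⟩ := not_forall.1 h
        rw [not_lt] at hi
        obtain ⟨e', rfl⟩ : ∃ e', e = e' + Finsupp.single i p :=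
          ⟨e - Finsupp.single i p, (tsub_add_cancel_of_le (Finsupp.single_le_iff.2 hi)).symm⟩
        have hlt : e'.degree < n := by
          rw [hn, map_add, Finsupp.degree_single]
          exact Nat.lt_add_of_pos_right (Nat.pos_of_ne_zero hp)
        obtain ⟨g, hg, hgf⟩ := ih _ hlt e' (c * ⟨x i ^ p, pow_mem' p A (x i)⟩) rfl
        refine ⟨g, hg, ?_⟩
        have key : MvPolynomial.monomial (e' + Finsupp.single i p) c -
            MvPolynomial.monomial e' (c * ⟨x i ^ p, pow_mem' p A (x i)⟩) ∈ (relIdeal (A := A) p x) := by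
          have : MvPolynomial.monomial (e' + Finsupp.single i p) c -
              MvPolynomial.monomial e' (c * ⟨x i ^ p, pow_mem' p A (x i)⟩) =
              MvPolynomial.monomial e' c *
                (MvPolynomial.X i ^ p - MvPolynomial.C (⟨x i ^ p, pow_mem' p A (x i)⟩ : (pPowerSubalgebra p A B))) := by
            rw [mul_sub, MvPolynomial.X_pow_eq_monomial, MvPolynomial.monomial_mul, mul_one,
              mul_comm (MvPolynomial.monomial e' c) (MvPolynomial.C _),
              MvPolynomial.C_mul_monomial, mul_comm c]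
          rw [this]
          exact Ideal.mul_mem_left _ _ (Ideal.subset_span ⟨i, rfl⟩)
        simpa using ((relIdeal (A := A) p x)).add_mem key hgf
  | add f g hf hg =>
    obtain ⟨f', hf', hf''⟩ := hf
    obtain ⟨g', hg', hg''⟩ := hg
    refine ⟨f' + g', fun e he => ?_, ?_⟩
    · rcases Finset.mem_union.1 (MvPolynomial.support_add he) with he | he
      · exact hf' e he
      · exact hg' e he
    · rw [show f + g - (f' + g') = (f - f') + (g - g') by ring]
      exact ((relIdeal (A := A) p x)).add_mem hf'' hg''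

theorem aeval_relIdeal (x : ι → B) {f : MvPolynomial ι (pPowerSubalgebra p A B)} (hf : f ∈ (relIdeal (A := A) p x)) :
    MvPolynomial.aeval x f = 0 := by
  suffices (relIdeal (A := A) p x) ≤ RingHom.ker (MvPolynomial.aeval x : MvPolynomial ι (pPowerSubalgebra p A B) →ₐ[(pPowerSubalgebra p A B)] B).toRingHom
    from this hf
  refine Ideal.span_le.2 ?_
  rintro _ ⟨i, rfl⟩
  simp [RingHom.mem_ker, Subalgebra.algebraMap_mk]

theorem pMonomial_eq (x : ι → B) (e : ι →₀ ℕ) :
    pMonomial x e = MvPolynomial.aeval (R := (pPowerSubalgebra p A B)) x (MvPolynomial.monomial e 1) := by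
  simp [pMonomial, MvPolynomial.aeval_monomial]

theorem isPGenerating_iff (hp : p ≠ 0) (x : ι → B) :
    IsPGenerating p A x ↔ Algebra.adjoin (pPowerSubalgebra p A B) (Set.range x) = ⊤ := by
  classical
  constructor
  · intro h
    refine top_unique fun b _ => ?_
    have hb : b ∈ Submodule.span (pPowerSubalgebra p A B)
        (Set.range fun e : {e : ι →₀ ℕ // ∀ i, e i < p} => pMonomial x e.1) := by
      rw [h]; trivial
    refine Submodule.span_le (p := (Algebra.adjoin (pPowerSubalgebra p A B) (Set.range x)).toSubmodule).2 ?_ hb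
    rintro _ ⟨e, rfl⟩
    show ∏ i ∈ e.1.support, x i ^ e.1 i ∈ Algebra.adjoin _ _
    exact Subalgebra.prod_mem _ fun i _ => Subalgebra.pow_mem _
      (Algebra.subset_adjoin (s := Set.range x) ⟨i, rfl⟩) _
  · intro h
    refine Submodule.eq_top_iff'.2 fun b => ?_
    obtain ⟨f, rfl⟩ : ∃ f : MvPolynomial ι (pPowerSubalgebra p A B), MvPolynomial.aeval x f = b := by
      have hb : b ∈ (MvPolynomial.aeval x : MvPolynomial ι (pPowerSubalgebra p A B) →ₐ[(pPowerSubalgebra p A B)] B).range := by
        rw [← Algebra.adjoin_range_eq_range_aeval, h]; trivial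
      exact hb
    obtain ⟨g, hg, hfg⟩ := exists_reduced hp x f
    have := aeval_relIdeal x hfg
    rw [map_sub, sub_eq_zero] at this
    rw [this, g.as_sum, map_sum]
    refine Submodule.sum_mem _ fun e he => ?_
    rw [MvPolynomial.aeval_monomial, ← Algebra.smul_def]
    exact Submodule.smul_mem _ _ (Submodule.subset_span ⟨⟨e, hg e he⟩, rfl⟩)

theorem eq_zero_of_aeval_eq_zero {x : ι → B} (hx : IsPIndependent p A x) {g : MvPolynomial ι (pPowerSubalgebra p A B)}
    (hg : ∀ e ∈ g.support, ∀ i, e i < p) (h : MvPolynomial.aeval x g = 0) : g = 0 := by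
  classical
  have hsum : ∑ e ∈ g.support.subtype (fun e => ∀ i, e i < p), g.coeff e.1 • pMonomial x e.1 = 0 := by
    refine (Finset.sum_subtype_of_mem (fun e => g.coeff e • pMonomial x e) hg).trans ?_
    rw [← h]
    conv_rhs => rw [g.as_sum, map_sum]
    refine Finset.sum_congr rfl fun e _ => ?_
    rw [MvPolynomial.aeval_monomial, Algebra.smul_def]
    rfl
  have := linearIndependent_iff'.1 hx _ (fun e => g.coeff e.1) hsum
  ext e
  by_cases he : e ∈ g.support
  · simpa using congrArg Subtype.val (this ⟨e, hg e he⟩ (Finset.mem_subtype.2 he))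
  · simp [MvPolynomial.notMem_support_iff.1 he]

theorem ker_aeval_le (hp : p ≠ 0) {x : ι → B} (hx : IsPIndependent p A x) :
    RingHom.ker (MvPolynomial.aeval x : MvPolynomial ι (pPowerSubalgebra p A B) →ₐ[(pPowerSubalgebra p A B)] B).toRingHom ≤ (relIdeal (A := A) p x) := by
  intro f hf
  obtain ⟨g, hg, hfg⟩ := exists_reduced hp x f
  have h := aeval_relIdeal x hfg
  rw [map_sub, show MvPolynomial.aeval x f = 0 from hf, zero_sub, neg_eq_zero] at h
  rw [eq_zero_of_aeval_eq_zero hx hg h, sub_zero] at hfg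
  exact hfg

theorem surjective_aeval (hp : p ≠ 0) {x : ι → B} (hx : IsPGenerating p A x) :
    Function.Surjective (MvPolynomial.aeval x : MvPolynomial ι (pPowerSubalgebra p A B) →ₐ[(pPowerSubalgebra p A B)] B) := by
  rw [← AlgHom.range_eq_top, ← Algebra.adjoin_range_eq_range_aeval]
  exact (isPGenerating_iff hp x).1 hx

/-- Homomorphisms out of `B` with prescribed values on `A[B^p]` and on a p-basis. -/
theorem exists_lift (hp : p ≠ 0) {x : ι → B} (hx : IsPBasis p A x) {E : Type v} [CommRing E]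
    (φ : (pPowerSubalgebra p A B) →+* E) (z : ι → E)
    (hz : ∀ i, φ ⟨x i ^ p, pow_mem' p A (x i)⟩ = z i ^ p) :
    ∃ w : B →+* E, (∀ a : (pPowerSubalgebra p A B), w a = φ a) ∧ ∀ i, w (x i) = z i := by
  let π := (MvPolynomial.aeval x : MvPolynomial ι (pPowerSubalgebra p A B) →ₐ[(pPowerSubalgebra p A B)] B).toRingHom
  have hπ : Function.Surjective π := surjective_aeval hp hx.2
  have hk : RingHom.ker π ≤ RingHom.ker (MvPolynomial.eval₂Hom φ z) := by
    refine (ker_aeval_le hp hx.1).trans (Ideal.span_le.2 ?_)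
    rintro _ ⟨i, rfl⟩
    simp [RingHom.mem_ker, hz]
  refine ⟨π.liftOfSurjective hπ ⟨MvPolynomial.eval₂Hom φ z, hk⟩, fun a => ?_, fun i => ?_⟩
  · have := RingHom.liftOfRightInverse_comp_apply π _ (Function.rightInverse_surjInv hπ)
      ⟨MvPolynomial.eval₂Hom φ z, hk⟩ (MvPolynomial.C a)
    simp only [π, AlgHom.toRingHom_eq_coe, RingHom.coe_coe, MvPolynomial.aeval_C,
      MvPolynomial.eval₂Hom_C] at this
    exact this
  · have := RingHom.liftOfRightInverse_comp_apply π _ (Function.rightInverse_surjInv hπ)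
      ⟨MvPolynomial.eval₂Hom φ z, hk⟩ (MvPolynomial.X i)
    simp only [π, AlgHom.toRingHom_eq_coe, RingHom.coe_coe, MvPolynomial.aeval_X,
      MvPolynomial.eval₂Hom_X'] at this
    exact this

theorem hom_ext (hp : p ≠ 0) {x : ι → B} (hx : IsPGenerating p A x) {E : Type v} [CommSemiring E]
    {f g : B →+* E} (h₀ : ∀ b ∈ (pPowerSubalgebra p A B), f b = g b) (h : ∀ i, f (x i) = g (x i)) : f = g := by
  refine RingHom.ext fun b => ?_
  have hb : b ∈ Algebra.adjoin (pPowerSubalgebra p A B) (Set.range x) := by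
    rw [(isPGenerating_iff hp x).1 hx]; trivial
  induction hb using Algebra.adjoin_induction with
  | mem _ hb => obtain ⟨i, rfl⟩ := hb; exact h i
  | algebraMap a => exact h₀ _ a.2
  | add _ _ _ _ h1 h2 => simp [h1, h2]
  | mul _ _ _ _ h1 h2 => simp [h1, h2]

variable {L : Type v} [AddCommGroup L] [Module B L]

theorem derivation_pow_eq_zero [CharP B p] (D : Derivation ℤ B L) (b : B) : D (b ^ p) = 0 := by
  rw [Derivation.leibniz_pow, ← Nat.cast_smul_eq_nsmul B, CharP.cast_eq_zero, zero_smul]

theorem derivation_eq_zero_of_mem [CharP B p] (D : Derivation A B B) {b : B} (hb : b ∈ (pPowerSubalgebra p A B)) :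
    D b = 0 := by
  induction hb using Algebra.adjoin_induction with
  | mem _ hb =>
    obtain ⟨c, rfl⟩ := hb
    rw [Derivation.leibniz_pow, ← Nat.cast_smul_eq_nsmul B, CharP.cast_eq_zero, zero_smul]
  | algebraMap a => exact D.map_algebraMap a
  | add _ _ _ _ h1 h2 => simp [h1, h2]
  | mul _ _ _ _ h1 h2 => simp [h1, h2]

/-- Derivations with prescribed values on `A[B^p]` and on a p-basis. -/
theorem exists_derivation [CharP B p] (hp : p ≠ 0) {x : ι → B} (hx : IsPBasis p A x) (D₀ : (pPowerSubalgebra p A B) →+ L)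
    (hD : ∀ a b : (pPowerSubalgebra p A B), D₀ (a * b) = (a : B) • D₀ b + (b : B) • D₀ a)
    (h0 : ∀ i, D₀ ⟨x i ^ p, pow_mem' p A (x i)⟩ = 0) (y : ι → L) :
    ∃ D : Derivation ℤ B L, (∀ a : (pPowerSubalgebra p A B), D a = D₀ a) ∧ ∀ i, D (x i) = y i := by
  letI : Module Bᵐᵒᵖ L := Module.compHom L ((RingHom.id B).fromOpposite mul_comm)
  haveI : IsCentralScalar B L := ⟨fun _ _ => rfl⟩
  haveI : SMulCommClass B Bᵐᵒᵖ L := ⟨fun a b l => smul_comm a b.unop l⟩
  have hD1 : D₀ 1 = 0 := by simpa using hD 1 1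
  let φ : (pPowerSubalgebra p A B) →+* TrivSqZeroExt B L :=
    { toFun := fun a => TrivSqZeroExt.inl (a : B) + TrivSqZeroExt.inr (D₀ a)
      map_one' := by ext <;> simp [hD1]
      map_zero' := by ext <;> simp
      map_add' := fun a b => by ext <;> simp
      map_mul' := fun a b => by ext <;> simp [hD, op_smul_eq_smul, add_comm] }
  obtain ⟨w, hw₀, hw⟩ := exists_lift hp hx φ
    (fun i => TrivSqZeroExt.inl (x i) + TrivSqZeroExt.inr (y i)) (fun i => by
      refine TrivSqZeroExt.ext (by simp [φ]) ?_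
      simp only [φ, RingHom.coe_mk, MonoidHom.coe_mk, OneHom.coe_mk, TrivSqZeroExt.snd_pow,
        TrivSqZeroExt.snd_add, TrivSqZeroExt.snd_inl, TrivSqZeroExt.snd_inr, zero_add, h0]
      rw [← Nat.cast_smul_eq_nsmul B, CharP.cast_eq_zero, zero_smul])
  have hfst : ∀ b, TrivSqZeroExt.fst (w b) = b := fun b => by
    have := hom_ext (A := A) hp hx.2
      (f := (TrivSqZeroExt.fstHom ℕ B L).toRingHom.comp w) (g := RingHom.id B)
      (fun a ha => by simp [hw₀ ⟨a, ha⟩, φ]) (fun i => by simp [hw i])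
    exact congr($this b)
  refine ⟨Derivation.mk' (AddMonoidHom.toIntLinearMap
    { toFun := fun b => TrivSqZeroExt.snd (w b)
      map_zero' := by simp
      map_add' := fun a b => by simp }) (fun a b => by
        simp [hfst, op_smul_eq_smul]), fun a => ?_, fun i => ?_⟩
  · show TrivSqZeroExt.snd (w (a : B)) = D₀ a
    rw [hw₀ a]; simp [φ]
  · show TrivSqZeroExt.snd (w (x i)) = y i
    rw [hw i]; simp

theorem derivation_ext [CharP B p] (hp : p ≠ 0) {x : ι → B} (hx : IsPGenerating p A x)
    {D D' : Derivation ℤ B L} (h₀ : ∀ a : A, D (algebraMap A B a) = D' (algebraMap A B a))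
    (h : ∀ i, D (x i) = D' (x i)) : D = D' := by
  have hA : ∀ b ∈ (pPowerSubalgebra p A B), D b = D' b := fun b hb => by
    induction hb using Algebra.adjoin_induction with
    | mem _ hb => obtain ⟨c, rfl⟩ := hb; simp only [derivation_pow_eq_zero]
    | algebraMap a => exact h₀ a
    | add _ _ _ _ h1 h2 => simp [h1, h2]
    | mul _ _ _ _ h1 h2 => simp [h1, h2]
  refine Derivation.ext fun b => ?_
  have hb : b ∈ Algebra.adjoin (pPowerSubalgebra p A B) (Set.range x) := by
    rw [(isPGenerating_iff hp x).1 hx]; trivial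
  induction hb using Algebra.adjoin_induction with
  | mem _ hb => obtain ⟨i, rfl⟩ := hb; exact h i
  | algebraMap a => exact hA _ a.2
  | add _ _ _ _ h1 h2 => simp [h1, h2]
  | mul _ _ _ _ h1 h2 => simp [h1, h2]

end general

section Injective

variable {p : ℕ} {A B : Type u} [CommRing A] [CommRing B] [Algebra A B] {ι : Type u}

theorem pPowerSubalgebra_eq_bot (hpow : ∀ b : B, b ^ p ∈ Set.range (algebraMap A B)) :
    pPowerSubalgebra p A B = ⊥ :=
  le_antisymm (Algebra.adjoin_le fun _ ⟨b, hb⟩ => hb ▸ Algebra.mem_bot.2 (hpow b)) bot_le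

theorem mem_range_of_mem (hpow : ∀ b : B, b ^ p ∈ Set.range (algebraMap A B)) {b : B}
    (hb : b ∈ pPowerSubalgebra p A B) : b ∈ Set.range (algebraMap A B) := by
  rw [pPowerSubalgebra_eq_bot hpow] at hb
  exact Algebra.mem_bot.1 hb

/-- When `B^p ⊆ A ⊆ B`, the subalgebra `A[B^p]` is `A`. -/
noncomputable def baseEquiv (hinj : Function.Injective (algebraMap A B))
    (hpow : ∀ b : B, b ^ p ∈ Set.range (algebraMap A B)) : A ≃+* pPowerSubalgebra p A B :=
  RingEquiv.ofBijective (algebraMap A (pPowerSubalgebra p A B))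
    ⟨fun _ _ h => hinj (congrArg Subtype.val h), fun b =>
      let ⟨a, ha⟩ := mem_range_of_mem hpow b.2; ⟨a, Subtype.ext ha⟩⟩

theorem algebraMap_baseEquiv_symm (hinj : Function.Injective (algebraMap A B))
    (hpow : ∀ b : B, b ^ p ∈ Set.range (algebraMap A B)) (b : pPowerSubalgebra p A B) :
    algebraMap A B ((baseEquiv hinj hpow).symm b) = b :=
  congrArg Subtype.val ((baseEquiv hinj hpow).apply_symm_apply b)

theorem baseEquiv_symm_apply (hinj : Function.Injective (algebraMap A B))
    (hpow : ∀ b : B, b ^ p ∈ Set.range (algebraMap A B)) (a : A) :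
    (baseEquiv hinj hpow).symm (algebraMap A (pPowerSubalgebra p A B) a) = a :=
  (baseEquiv hinj hpow).symm_apply_apply a

theorem exists_lift' (hp : p ≠ 0) (hinj : Function.Injective (algebraMap A B))
    (hpow : ∀ b : B, b ^ p ∈ Set.range (algebraMap A B)) {x : ι → B} (hx : IsPBasis p A x)
    {E : Type v} [CommRing E] (φ : A →+* E) (z : ι → E)
    (hz : ∀ i a, algebraMap A B a = x i ^ p → φ a = z i ^ p) :
    ∃ w : B →+* E, (∀ a, w (algebraMap A B a) = φ a) ∧ ∀ i, w (x i) = z i := by
  obtain ⟨w, hw₀, hw⟩ := exists_lift hp hx (φ.comp (baseEquiv hinj hpow).symm.toRingHom) z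
    fun i => hz i _ (algebraMap_baseEquiv_symm hinj hpow _)
  refine ⟨w, fun a => ?_, hw⟩
  rw [show algebraMap A B a = ((algebraMap A (pPowerSubalgebra p A B) a : pPowerSubalgebra p A B) : B)
    from rfl, hw₀]
  exact congrArg φ (baseEquiv_symm_apply hinj hpow a)

theorem hom_ext' (hp : p ≠ 0) (hpow : ∀ b : B, b ^ p ∈ Set.range (algebraMap A B))
    {x : ι → B} (hx : IsPGenerating p A x) {E : Type v} [CommSemiring E] {f g : B →+* E}
    (h₀ : ∀ a, f (algebraMap A B a) = g (algebraMap A B a)) (h : ∀ i, f (x i) = g (x i)) : f = g :=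
  hom_ext hp hx (fun b hb => by obtain ⟨a, rfl⟩ := mem_range_of_mem hpow hb; exact h₀ a) h

theorem exists_derivation' [CharP B p] (hp : p ≠ 0) (hinj : Function.Injective (algebraMap A B))
    (hpow : ∀ b : B, b ^ p ∈ Set.range (algebraMap A B)) {x : ι → B} (hx : IsPBasis p A x)
    {L : Type v} [AddCommGroup L] [Module B L] (D : A →+ L)
    (hD : ∀ a b, D (a * b) = algebraMap A B a • D b + algebraMap A B b • D a)
    (h0 : ∀ i a, algebraMap A B a = x i ^ p → D a = 0) (y : ι → L) :
    ∃ D' : Derivation ℤ B L, (∀ a, D' (algebraMap A B a) = D a) ∧ ∀ i, D' (x i) = y i := by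
  obtain ⟨D', h₀, h⟩ := exists_derivation hp hx
    (D.comp (baseEquiv hinj hpow).symm.toAddEquiv.toAddMonoidHom)
    (fun a b => by
      show D ((baseEquiv hinj hpow).symm (a * b)) = _
      rw [map_mul, hD, algebraMap_baseEquiv_symm, algebraMap_baseEquiv_symm]
      rfl)
    (fun i => h0 i _ (algebraMap_baseEquiv_symm hinj hpow _)) y
  refine ⟨D', fun a => ?_, h⟩
  rw [show algebraMap A B a = ((algebraMap A (pPowerSubalgebra p A B) a : pPowerSubalgebra p A B) : B)
    from rfl, h₀]
  exact congrArg D (baseEquiv_symm_apply hinj hpow a)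

theorem natCast_eq_zero [CharP B p] (hinj : Function.Injective (algebraMap A B)) : (p : A) = 0 :=
  hinj (by simp [CharP.cast_eq_zero])

end Injective

theorem add_pow_of_cast_eq_zero {p : ℕ} [Fact p.Prime] {E : Type v} [CommRing E] (h : (p : E) = 0)
    (a b : E) : (a + b) ^ p = a ^ p + b ^ p := by
  obtain ⟨r, hr⟩ := (Commute.all a b).exists_add_pow_prime_eq (Fact.out : p.Prime)
  rw [hr, h]; simp

end Groth.Agent.PBasis
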